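import Cfsg.Agent.UnitGeo.OrthSubfieldForm
import Cfsg.Agent.UnitGeo.SympSubfield

/-! Maximality of an orthogonal subfield group in the special unitary group. -/

set_option autoImplicit false
set_option linter.unusedSectionVars false

namespace CfsgLib.UnitGeo

open Cfsg Module CfsgLib.Unitary CfsgLib.Subfield54
open scoped Matrix MatrixGroups

variable {F : Type*} [Field F] {n q : ℕ} {F₀ : Subfield F} {P : GL (Fin n) F}
variable [Fintype F] (hF : Fintype.card F = q ^ 2) (hS : RStr q F₀ 1 P) (h2 : (2 : F) ≠ 0) (hn : 9 ≤ n)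
variable {M : Subgroup (GL (Fin n) F)} (hH : SubH q F₀ P ≤ M) (hM : M ≤ SUGL n F q)

/-- All transvections with centre `v` lie in `M`. -/
def GoodCentre (q : ℕ) (M : Subgroup (GL (Fin n) F)) (v : Fin n → F) : Prop :=
  ∀ k : F, k + k ^ q = 0 → MIn M (tMat q v k)

include hF hS

omit hS in
lemma exists_skew : ∃ δ : F, δ ≠ 0 ∧ δ ^ q = -δ := by
  obtain ⟨l, hl⟩ := exists_ne_pow_q hF
  exact ⟨l - l ^ q, sub_ne_zero.2 (Ne.symm hl), by rw [sub_pow_q hF, pow_q_q hF, neg_sub]⟩

include h2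

lemma not_mem_of_skew {δ : F} (h0 : δ ≠ 0) (hδ : δ ^ q = -δ) : δ ∉ F₀ := fun h => by
  rw [(hS.fix δ).1 h] at hδ
  exact h0 ((mul_eq_zero.1 (show (2 : F) * δ = 0 by linear_combination hδ)).resolve_left h2)

include hn hH

lemma rootMem {a b : Fin n → F} (ha : InW F₀ P a) (hb : InW F₀ P b) (haa : hermForm n F q a a = 0)
    (hbb : hermForm n F q b b = 0) (hab : hermForm n F q a b = 0) {t : F} (ht : t ∈ F₀) :
    MIn M (rMat q a (t • b)) := by
  have := (rMat_rat hF hS ha hb haa hbb hab ht).mono hH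
  rwa [mul_one] at this

lemma rootMem_one {a b : Fin n → F} (ha : InW F₀ P a) (hb : InW F₀ P b) (haa : hermForm n F q a a = 0)
    (hbb : hermForm n F q b b = 0) (hab : hermForm n F q a b = 0) : MIn M (rMat q a b) := by
  simpa using rootMem hF hS h2 hn hH ha hb haa hbb hab F₀.one_mem

include hM

lemma form_of_mem {g : GL (Fin n) F} (hg : g ∈ M) (x y : Fin n → F) :
    hermForm n F q ((g : Matrix (Fin n) (Fin n) F) *ᵥ x) ((g : Matrix (Fin n) (Fin n) F) *ᵥ y) = hermForm n F q x y :=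
  (hM hg).1 x y

lemma mulVec_ne_zero_of_mem {g : GL (Fin n) F} {v : Fin n → F} (hv : v ≠ 0) :
    (g : Matrix (Fin n) (Fin n) F) *ᵥ v ≠ 0 := fun h => hv (by
  have := mulVec_inv_P g v
  rwa [h, Matrix.mulVec_zero, eq_comm] at this)

/-- Without rational transvections in `M`, an element taking a rational isotropic point to a rational point is
rational on its orthogonal. -/
lemma image_rat (hno : ∀ c, InW F₀ P c → c ≠ 0 → hermForm n F q c c = 0 →
      ∀ k, k + k ^ q = 0 → MIn M (tMat q c k) → k = 0)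
    {g : GL (Fin n) F} (hg : g ∈ M) {c c' : Fin n → F} (hc : InW F₀ P c) (hc' : InW F₀ P c') (hc0 : c ≠ 0)
    (hcc : hermForm n F q c c = 0) {l : F} (e : (g : Matrix (Fin n) (Fin n) F) *ᵥ c = l • c')
    {d : Fin n → F} (hd : InW F₀ P d) (hdc : hermForm n F q d c = 0) :
    InW F₀ P (l ^ q • (g : Matrix (Fin n) (Fin n) F) *ᵥ d) := by
  obtain ⟨δ, hδ⟩ := exists_delta hF hS
  have hgf := form_of_mem hF hS h2 hn hH hM hg
  have hgc0 := mulVec_ne_zero_of_mem (g := g) hF hS h2 hn hH hM hc0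
  have hl0 : l ≠ 0 := fun h0 => hgc0 (by rw [e, h0, zero_smul])
  have hc'0 : c' ≠ 0 := fun h0 => hgc0 (by rw [e, h0, smul_zero])
  have hc'c' : hermForm n F q c' c' = 0 := by
    have h := (hgf c c).trans hcc
    rw [e, herm_self_smul] at h
    exact (mul_eq_zero.1 h).resolve_left (pow_ne_zero _ hl0)
  refine iso_induction hF hS h2 hn hc (fun u => InW F₀ P (l ^ q • (g : Matrix (Fin n) (Fin n) F) *ᵥ u))
    (fun u v _ _ hu hv => ?_) (fun u hu huc huu => ?_) hd hdc
  · rw [Matrix.mulVec_add, smul_add]; exact hu.add hv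
  set y := l ^ q • (g : Matrix (Fin n) (Fin n) F) *ᵥ u with hy
  have hyy : hermForm n F q y y = 0 := by rw [hy, herm_self_smul, hgf, huu, mul_zero]
  have hgu : hermForm n F q ((g : Matrix (Fin n) (Fin n) F) *ᵥ u) c' = 0 := by
    have h := (hgf u c).trans huc
    rw [e, herm_smul_right] at h
    exact (mul_eq_zero.1 h).resolve_left (pow_ne_zero _ hl0)
  have hyc : hermForm n F q y c' = 0 := by rw [hy, herm_smul_left, hgu, mul_zero]
  have hcy := herm_eq_zero_comm hF hyc
  obtain ⟨r, hr, er⟩ := rootMem_one hF hS h2 hn hH hc hu hcc huu (herm_eq_zero_comm hF huc)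
  have hm : MIn M (rMat q c' y) := ⟨g * r * g⁻¹, M.mul_mem (M.mul_mem hg hr) (M.inv_mem hg), by
    rw [Units.val_mul, Units.val_mul, er, conj_rMat hF hgf _ hcc, e, rMat_smul_left hF hc'c']⟩
  have hval : ∀ d', InW F₀ P d' → hermForm n F q d' c' = 0 → hermForm n F q y d' ∈ F₀ := by
    intro d' hd' hd'c
    refine iso_induction hF hS h2 hn hc' (fun x => hermForm n F q y x ∈ F₀)
      (fun x z _ _ hx hz => by rw [herm_add_right hF]; exact F₀.add_mem hx hz) (fun x hx hxc hxx => ?_) hd' hd'c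
    obtain ⟨s, hs, es⟩ := rootMem_one hF hS h2 hn hH hc' hx hc'c' hxx (herm_eq_zero_comm hF hxc)
    obtain ⟨r', hr', er'⟩ := id hm
    have h1 : MIn M (rMat q c' (y + (-hermForm n F q y x) • c')) := ⟨s * r' * s⁻¹,
      M.mul_mem (M.mul_mem hs hr') (M.inv_mem hs), by
        rw [Units.val_mul, Units.val_mul, er', conj_rMat hF (form_of_mem hF hS h2 hn hH hM hs) _ hc'c', es,
          rMat_mulVec hc'c', rMat_mulVec hc'c', hc'c', herm_eq_zero_comm hF hxc, hyc]
        simp [sub_eq_add_neg, neg_smul]⟩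
    rw [rMat_add_smul hF hc'c' hcy] at h1
    have h3 := (hm.of_mul_eq_one (rMat_neg_mul hF hc'c' hyy hcy)).mul h1
    rw [← mul_assoc, rMat_neg_mul hF hyy hc'c' hyc, one_mul] at h3
    have h4 := hno c' hc' hc'0 hc'c' _ (by rw [sub_pow_q hF, pow_q_q hF]; ring) h3
    refine (hS.fix _).2 ?_
    rw [neg_pow_q hF] at h4
    linear_combination h4
  obtain ⟨a, b, ha, hb, hy', -⟩ := exists_decomp hF hS hδ y
  obtain ⟨hac, hbc⟩ := comp_perp hF hS hδ ha hb hc' (hy' ▸ hyc)
  have hbperp : ∀ d', InW F₀ P d' → hermForm n F q d' c' = 0 → hermForm n F q d' b = 0 := by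
    intro d' hd' hd'c
    have h := hval d' hd' hd'c
    rw [hy', herm_add_left, herm_smul_left] at h
    exact herm_eq_zero_comm hF (split_eq_zero hF hS hδ (F₀.sub_mem (rat_one hF hS ha hd') h)
      (rat_one hF hS hb hd') (by ring)).2
  obtain ⟨k, hk⟩ := mem_line_of_perp hF hS hc' hc'0 hbperp
  have haa : hermForm n F q a a = 0 := by
    have h := hyy
    rw [hy', hk] at h
    simpa [herm_add_left, herm_add_right hF, herm_smul_left, herm_smul_right, hc'c', hac,
      herm_eq_zero_comm hF hac] using h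
  have hm' : MIn M (rMat q c' (a + (δ * k) • c')) := by rwa [mul_smul, ← hk, ← hy']
  rw [rMat_add_smul hF hc'c' (herm_eq_zero_comm hF hac)] at hm'
  have h3 := ((rootMem_one hF hS h2 hn hH hc' ha hc'c' haa (herm_eq_zero_comm hF hac)).of_mul_eq_one
    (rMat_neg_mul hF hc'c' haa (herm_eq_zero_comm hF hac))).mul hm'
  rw [← mul_assoc, rMat_neg_mul hF haa hc'c' hac, one_mul] at h3
  have h4 := hno c' hc' hc'0 hc'c' _ (by rw [sub_pow_q hF, pow_q_q hF]; ring) h3
  show InW F₀ P y
  rw [hy', hk, smul_smul]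
  exact ha.add (hc'.smul ((hS.fix _).2 (by linear_combination -h4)))

/-- Without rational transvections in `M`, only rational elements fix a rational isotropic point. -/
lemma rational_of_line (hno : ∀ c, InW F₀ P c → c ≠ 0 → hermForm n F q c c = 0 →
      ∀ k, k + k ^ q = 0 → MIn M (tMat q c k) → k = 0)
    {g : GL (Fin n) F} (hg : g ∈ M) {c c' : Fin n → F} (hc : InW F₀ P c) (hc' : InW F₀ P c') (hc0 : c ≠ 0)
    (hcc : hermForm n F q c c = 0) {l : F} (e : (g : Matrix (Fin n) (Fin n) F) *ᵥ c = l • c') :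
    g ∈ Cfsg.Geo.subfieldSubgroup F₀ P := by
  have hl0 : l ≠ 0 := fun h0 => mulVec_ne_zero_of_mem (g := g) hF hS h2 hn hH hM hc0 (by rw [e, h0, zero_smul])
  have hN : l ^ (q + 1) ∈ F₀ := (hS.fix _).2 (norm_pow_q hF l)
  have conv : ∀ (l' : F), l' ≠ 0 → ∀ u, InW F₀ P (l' ^ q • u) →
      ∃ w, InW F₀ P w ∧ u = l' • w := fun l' hl' u hu =>
    ⟨(l' ^ (q + 1))⁻¹ • (l' ^ q • u), hu.smul (F₀.inv_mem ((hS.fix _).2 (norm_pow_q hF l'))), by
      rw [smul_smul, smul_smul, pow_succ]; field_simp; rw [one_smul]⟩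
  obtain ⟨d, hd, hdd, hd0, hdc, -, -, -, hdN⟩ := exists_iso_W hF hS h2 hn hc hc hc hc hc hc
  rw [sup_idem] at hdN
  obtain ⟨u, hu, eu⟩ := conv l hl0 _ (image_rat hF hS h2 hn hH hM hno hg hc hc' hc0 hcc e hd hdc)
  refine mem_subfield_of_lines fun v hv => ?_
  obtain ⟨z, hz, -, hzd, hcz⟩ := exists_iso_partner hF hS h2 hn hc hd (fun hm => by
    obtain ⟨t, ht⟩ := Submodule.mem_span_singleton.1 hm
    refine hdN (Submodule.mem_span_singleton.2 ⟨t⁻¹, ?_⟩)
    rw [← ht, smul_smul, inv_mul_cancel₀ (fun h0 => hc0 (by rw [← ht, h0, zero_smul])), one_smul])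
  have hvc : hermForm n F q v c ∈ F₀ := rat_one hF hS hv hc
  obtain ⟨w₁, hw₁, e₁⟩ := conv l hl0 _ (image_rat hF hS h2 hn hH hM hno hg hc hc' hc0 hcc e
    (hv.sub (hz.smul hvc)) (by
      rw [herm_sub_left, herm_smul_left, show hermForm n F q z c = 1 from (herm_symm_one hF hS hc hz).trans hcz,
        mul_one, sub_self]))
  obtain ⟨w₂, hw₂, e₂⟩ := conv l hl0 _ (image_rat hF hS h2 hn hH hM hno hg hd hu hd0 hdd eu
    (hz.smul hvc) (by rw [herm_smul_left, hzd, mul_zero]))
  refine ⟨l, w₁ + w₂, hw₁.add hw₂, ?_⟩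
  rw [smul_add, ← e₁, ← e₂, ← Matrix.mulVec_add, sub_add_cancel]

/-- A subgroup properly above the subfield group contains a transvection at a rational point. -/
lemma exists_rational_transv (hMH : ¬ M ≤ SubH q F₀ P) :
    ∃ c k, InW F₀ P c ∧ c ≠ 0 ∧ hermForm n F q c c = 0 ∧ k ≠ 0 ∧ k + k ^ q = 0 ∧ MIn M (tMat q c k) := by
  by_contra hc
  push Not at hc
  have hno : ∀ c, InW F₀ P c → c ≠ 0 → hermForm n F q c c = 0 →
      ∀ k, k + k ^ q = 0 → MIn M (tMat q c k) → k = 0 :=
    fun c h1 h2' h3 k hk hm => by_contra fun h0 => hc c k h1 h2' h3 h0 hk hm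
  obtain ⟨g, hgM, hgH⟩ := SetLike.not_le_iff_exists.1 hMH
  obtain ⟨δ, hδ⟩ := exists_delta hF hS
  have hgf := form_of_mem hF hS h2 hn hH hM hgM
  obtain ⟨a, ha, haa, ha0, -⟩ := exists_iso_W hF hS h2 hn inW_zero inW_zero inW_zero inW_zero inW_zero inW_zero
  obtain ⟨b, hb, hbb, -, hba, -, -, -, hbN⟩ := exists_iso_W hF hS h2 hn ha ha ha ha ha ha
  obtain ⟨b', hb', hbb', -, hba', -, -, -, hbN'⟩ := exists_iso_W hF hS h2 hn ha ha ha ha ha hb
  rw [sup_idem] at hbN
  set G := (g : Matrix (Fin n) (Fin n) F) with hG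
  have plane : ∀ e, InW F₀ P e → hermForm n F q e e = 0 → hermForm n F q e a = 0 → e ∉ Submodule.span F {a} →
      ∃ s t : F, sigma q P (G *ᵥ a) = s • G *ᵥ e + t • G *ᵥ a := by
    intro e he hee hea heN
    obtain ⟨A, B, hA, hB, eA, -⟩ := exists_decomp hF hS hδ (G *ᵥ a)
    obtain ⟨A', B', hA', hB', eA', -⟩ := exists_decomp hF hS hδ (G *ᵥ e)
    obtain ⟨w, hw, hww, hw0, h1, h2', h3, h4, -⟩ := exists_iso_W hF hS h2 hn hA hB hA' hB' inW_zero inW_zero
    obtain ⟨r, hr, er⟩ := rootMem_one hF hS h2 hn hH ha he haa hee (herm_eq_zero_comm hF hea)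
    set x := g * r * g⁻¹ with hx
    have hxM : x ∈ M := M.mul_mem (M.mul_mem hgM hr) (M.inv_mem hgM)
    have hga : hermForm n F q (G *ᵥ a) (G *ᵥ a) = 0 := (hgf a a).trans haa
    have ex : (x : Matrix (Fin n) (Fin n) F) = rMat q (G *ᵥ a) (G *ᵥ e) := by
      rw [hx, Units.val_mul, Units.val_mul, er, conj_rMat hF hgf _ haa]
    have hxw : (x : Matrix (Fin n) (Fin n) F) *ᵥ w = w := by
      rw [ex, rMat_mulVec hga, eA, eA', herm_add_right hF, herm_add_right hF, herm_smul_right, herm_smul_right,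
        h1, h2', h3, h4]
      simp
    have hp := preserves_of_fix hF hS (rational_of_line hF hS h2 hn hH hM hno hxM hw hw hw0 hww
      (hxw.trans (one_smul F w).symm)) hw hw0 hxw
    obtain ⟨y, -, -, hya, hey⟩ := exists_iso_partner hF hS h2 hn he ha heN
    set z := G *ᵥ (-y) with hz
    have hza : hermForm n F q z (G *ᵥ a) = 0 := by rw [hz, hgf, herm_neg_left, hya, neg_zero]
    have hze : hermForm n F q z (G *ᵥ e) = -1 := by
      rw [hz, hgf, herm_neg_left, herm_conj hF e y, hey, one_pow]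
    have hxz : (x : Matrix (Fin n) (Fin n) F) *ᵥ z = z + G *ᵥ a := by
      rw [ex, rMat_mulVec hga, hza, hze]; simp
    have h5 := sigma_comm hF hS hp z
    rw [hxz, sigma_add hF, ex, rMat_mulVec hga, add_sub_assoc] at h5
    exact ⟨hermForm n F q (sigma q P z) (G *ᵥ a), -hermForm n F q (sigma q P z) (G *ᵥ e), by
      rw [add_left_cancel h5, neg_smul, ← sub_eq_add_neg]⟩
  obtain ⟨s₁, t₁, e₁⟩ := plane b hb hbb hba hbN
  obtain ⟨s₂, t₂, e₂⟩ := plane b' hb' hbb' hba' (fun h => hbN' (Submodule.mem_sup_left h))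
  have h6 : s₂ • b' = s₁ • b + (t₁ - t₂) • a := by
    have h7 : G *ᵥ (s₂ • b') = G *ᵥ (s₁ • b + (t₁ - t₂) • a) := by
      rw [Matrix.mulVec_smul, Matrix.mulVec_add, Matrix.mulVec_smul, Matrix.mulVec_smul]
      have := e₁.symm.trans e₂
      linear_combination (norm := module) -this
    have := congrArg (((g⁻¹ : GL (Fin n) F) : Matrix (Fin n) (Fin n) F) *ᵥ ·) h7
    simpa [hG, mulVec_inv_P] using this
  have hs₂ : s₂ = 0 := by
    by_contra hs
    refine hbN' ?_
    rw [show b' = s₂⁻¹ • (s₂ • b') by rw [smul_smul, inv_mul_cancel₀ hs, one_smul], h6]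
    exact Submodule.smul_mem _ _ (Submodule.add_mem _
      (Submodule.mem_sup_right (Submodule.smul_mem _ _ (Submodule.mem_span_singleton_self b)))
      (Submodule.mem_sup_left (Submodule.smul_mem _ _ (Submodule.mem_span_singleton_self a))))
  rw [hs₂, zero_smul, zero_add] at e₂
  obtain ⟨s, w, hw, ew⟩ := line_of_sigma hF hS e₂
  exact hgH ⟨rational_of_line hF hS h2 hn hH hM hno hgM ha hw ha0 haa ew, hM hgM⟩

/-- A rational transvection spreads to all rational isotropic points orthogonal to its centre. -/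
lemma good_step {c d : Fin n → F} (hc : InW F₀ P c) (hd : InW F₀ P d) (hcc : hermForm n F q c c = 0)
    (hdd : hermForm n F q d d = 0) (hdc : hermForm n F q d c = 0) (hind : c ∉ Submodule.span F {d})
    {k : F} (hk0 : k ≠ 0) (hk : k + k ^ q = 0) (h : MIn M (tMat q c k)) : GoodCentre q M d := by
  intro k' hk'
  obtain ⟨e, he, hee, hed, hce⟩ := exists_iso_partner hF hS h2 hn hc hd hind
  have hcd := herm_eq_zero_comm hF hdc
  have key : ∀ α ∈ F₀, MIn M (tMat q (c + α • d) k) := by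
    intro α hα
    obtain ⟨g, hg, eg⟩ := rootMem hF hS h2 hn hH he hd hee hdd hed hα
    obtain ⟨r, hr, er⟩ := h
    refine ⟨g * r * g⁻¹, M.mul_mem (M.mul_mem hg hr) (M.inv_mem hg), ?_⟩
    rw [Units.val_mul, Units.val_mul, er, conj_tMat hF (form_of_mem hF hS h2 hn hH hM hg), eg, rMat_mulVec hee,
      herm_smul_right, hcd, hce]
    simp
  have hneg : ∀ α ∈ F₀, MIn M (tMat q (c + α • d) (-k)) := fun α hα => (key α hα).of_mul_eq_one (by
    rw [tMat_mul hF (by simp [herm_add_left, herm_add_right hF, herm_smul_left, herm_smul_right, hcc, hdd, hcd, hdc]),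
      add_neg_cancel, tMat_zero hF])
  set α := k' / (2 * k) with hα
  have hαm : α ∈ F₀ := by
    refine (hS.fix _).2 ?_
    rw [hα, div_pow, mul_pow, pow_q_of_mem hF hS two_mem, show k ^ q = -k by linear_combination hk,
      show k' ^ q = -k' by linear_combination hk', mul_neg, neg_div_neg_eq]
  have h1 := (((key (α + 1) (F₀.add_mem hαm F₀.one_mem)).mul (hneg α hαm)).mul (by
    simpa using hneg 1 F₀.one_mem : MIn M (tMat q (c + d) (-k)))).mul h
  rw [tMat_polar hF hcc hdd hcd, pow_q_of_mem hF hS hαm] at h1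
  rwa [show k * (α + α) = k' by rw [hα]; field_simp; ring] at h1

lemma good_rational {c : Fin n → F} (hc : InW F₀ P c) (hc0 : c ≠ 0) (hcc : hermForm n F q c c = 0)
    {k : F} (hk0 : k ≠ 0) (hk : k + k ^ q = 0) (h : MIn M (tMat q c k)) {d : Fin n → F} (hd : InW F₀ P d)
    (hdd : hermForm n F q d d = 0) : GoodCentre q M d := by
  by_cases hd0 : d = 0
  · intro k' _
    exact ⟨1, M.one_mem, by
      rw [hd0]; exact matrix_ext fun x => by rw [tMat_mulVec, smul_zero, add_zero]; simp⟩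
  obtain ⟨f, hf, hff, hf0, hfc, hfd, -, -, hfN⟩ := exists_iso_W hF hS h2 hn hc hd hc hd hc hd
  have flip : ∀ x : Fin n → F, x ≠ 0 → x ∈ Submodule.span F {f} → f ∈ Submodule.span F {x} := fun x hx hm => by
    obtain ⟨t, ht⟩ := Submodule.mem_span_singleton.1 hm
    refine Submodule.mem_span_singleton.2 ⟨t⁻¹, ?_⟩
    rw [← ht, smul_smul, inv_mul_cancel₀ (fun h0 => hx (by rw [← ht, h0, zero_smul])), one_smul]
  have hgf := good_step hF hS h2 hn hH hM hc hf hcc hff hfc (fun hm => hfN (Submodule.mem_sup_left (flip c hc0 hm)))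
    hk0 hk h k hk
  exact good_step hF hS h2 hn hH hM hf hd hff hdd (herm_eq_zero_comm hF hfd)
    (fun hm => hfN (Submodule.mem_sup_right hm)) hk0 hk hgf

/-- With all rational transvections, `M` is the whole special unitary group. -/
lemma le_of_good_rational (hgood : ∀ d, InW F₀ P d → hermForm n F q d d = 0 → GoodCentre q M d) :
    SUGL n F q ≤ M := by
  obtain ⟨δ, hδ0, hδq⟩ := exists_skew hF
  have hδ := not_mem_of_skew hF hS h2 hδ0 hδq
  have base : ∀ v, hermForm n F q v v = 0 → hermForm n F q v (sigma q P v) = 0 → GoodCentre q M v := by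
    intro v hv hz
    obtain ⟨a, b, ha, hb, rfl, hs⟩ := exists_decomp hF hS hδ v
    rw [hs] at hz
    simp only [herm_add_left, herm_add_right hF, herm_smul_left, herm_smul_right, hδq, neg_pow_q hF,
      herm_symm_one hF hS ha hb] at hv hz
    obtain ⟨h1, h3⟩ := split_eq_zero hF hS hδ (rat_one hF hS ha ha) (rat_one hF hS ha hb)
      (mul_left_cancel₀ h2 (by linear_combination hv + hz))
    have h4 : hermForm n F q b b = 0 := by
      rw [h1, h3] at hv
      exact (mul_eq_zero.1 (show δ * δ * hermForm n F q b b = 0 by linear_combination -hv)).resolve_left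
        (mul_ne_zero hδ0 hδ0)
    intro k hk
    rw [tMat_split hF h1 h4 h3 δ hk]
    refine ((hgood a ha h1 k hk).mul (hgood b hb h4 _ ?_)).mul (rootMem hF hS h2 hn hH ha hb h1 h4 h3
      ((hS.fix _).2 ?_))
    · rw [mul_pow, norm_pow_q hF, ← add_mul, hk, zero_mul]
    · rw [mul_pow, hδq, show k ^ q = -k by linear_combination hk, neg_mul_neg]
  have step : ∀ v, hermForm n F q v v = 0 → hermForm n F q v (sigma q P v) ≠ 0 → ∀ w : F,
      (∀ v', hermForm n F q v' v' = 0 →
        hermForm n F q v' (sigma q P v') = hermForm n F q v (sigma q P v) + 2 * δ * w ^ 2 → GoodCentre q M v') →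
      GoodCentre q M v := by
    intro v hv hz w ih
    obtain ⟨a, b, ha, hb, hve, hs⟩ := exists_decomp hF hS hδ v
    have hD : hermForm n F q a a * hermForm n F q b b - hermForm n F q a b ^ 2 ≠ 0 := by
      intro hD
      rw [hs, hve] at hz
      rw [hve] at hv
      simp only [herm_add_left, herm_add_right hF, herm_smul_left, herm_smul_right, hδq, neg_pow_q hF,
        herm_symm_one hF hS ha hb] at hv hz
      have h5 : (hermForm n F q a b + δ * hermForm n F q b b) * (hermForm n F q a b + δ * -hermForm n F q b b) = 0 := by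
        linear_combination hermForm n F q b b * hv - hD
      have h6 : hermForm n F q a b = 0 ∧ hermForm n F q b b = 0 := by
        rcases mul_eq_zero.1 h5 with h | h
        · exact split_eq_zero hF hS hδ (rat_one hF hS ha hb) (rat_one hF hS hb hb) h
        · obtain ⟨x, y⟩ := split_eq_zero hF hS hδ (rat_one hF hS ha hb) (F₀.neg_mem (rat_one hF hS hb hb)) h
          exact ⟨x, neg_eq_zero.1 y⟩
      rw [h6.1, h6.2] at hv hz
      exact hz (by linear_combination hv)
    obtain ⟨w₁, hw₁, w₂, hw₂, hw⟩ := exists_scalar_decomp hF hS hδ w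
    obtain ⟨e, he, hee, hae, hbe⟩ := exists_iso_prescribed hF hS h2 hn ha hb hD hw₁ hw₂
    have hvw : hermForm n F q v e = w := by rw [hve, herm_add_left, herm_smul_left, hae, hbe, hw]
    obtain ⟨g, hg, eg⟩ := hgood e he hee δ (by rw [hδq, add_neg_cancel])
    have hgv : (g : Matrix (Fin n) (Fin n) F) *ᵥ v = v + (δ * w) • e := by rw [eg, tMat_mulVec, hvw]
    have hev : hermForm n F q e v = w ^ q := by rw [herm_conj hF v e, hvw]
    have hsv : hermForm n F q (sigma q P v) e = w ^ q := by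
      have h7 := herm_sigma hF hS v e
      rw [one_mul, one_mul, he.sigma_eq hF hS, hvw] at h7
      exact h7.symm
    have hes : hermForm n F q e (sigma q P v) = w := by rw [herm_conj hF (sigma q P v) e, hsv, pow_q_q hF]
    have hG := ih (v + (δ * w) • e) (by
        rw [← hgv, form_of_mem hF hS h2 hn hH hM hg]; exact hv) (by
        rw [sigma_add hF, sigma_smul hF, he.sigma_eq hF hS]
        simp only [herm_add_left, herm_add_right hF, herm_smul_left, herm_smul_right, hee, hes, hvw, mul_pow,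
          pow_q_q hF]
        ring)
    intro k hk
    obtain ⟨r, hr, er⟩ := hG k hk
    refine ⟨g⁻¹ * r * g⁻¹⁻¹, M.mul_mem (M.mul_mem (M.inv_mem hg) hr) (M.inv_mem (M.inv_mem hg)), ?_⟩
    rw [Units.val_mul, Units.val_mul, er, conj_tMat hF (form_of_mem hF hS h2 hn hH hM (M.inv_mem hg)), ← hgv,
      mulVec_inv_P]
  obtain ⟨i, hi⟩ : IsSquare (-1 : F) := by
    rw [FiniteField.isSquare_neg_one_iff, hF]
    intro h
    rw [Nat.pow_mod] at h
    have h4 : q % 4 < 4 := Nat.mod_lt _ (by norm_num)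
    interval_cases q % 4 <;> simp_all
  have main : ∀ v, hermForm n F q v v = 0 → GoodCentre q M v := by
    intro v hv
    set z := hermForm n F q v (sigma q P v) with hzdef
    by_cases hz : z = 0
    · exact base v hv hz
    set t := z / (2 * δ) with ht
    have hzt : z = 2 * δ * t := by rw [ht, mul_comm, div_mul_cancel₀ _ (mul_ne_zero h2 hδ0)]
    refine step v hv hz ((t - 1) / 2) fun v' hv' hz' => ?_
    rw [← hzdef] at hz'
    by_cases hz0 : hermForm n F q v' (sigma q P v') = 0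
    · exact base v' hv' hz0
    refine step v' hv' hz0 (i * ((t + 1) / 2)) fun v'' hv'' hz'' => base v'' hv'' ?_
    rw [hz'', hz', hzt, mul_pow, sq i, ← hi]
    field_simp
    ring
  exact le_of_tMat_mem hF (by omega) fun v c hv hc => main v hv c hc

omit hM hH
/-- The orthogonal subfield group is maximal in the special unitary group. -/
theorem orthSubfield_isMaximal : Cfsg.Geo.IsMaximalIn (SUGL n F q) (SubH q F₀ P) := by
  obtain ⟨δ, hδ0, hδq⟩ := exists_skew hF
  refine ⟨lt_of_le_of_ne inf_le_right fun heq => ?_, fun M hle hM => ?_⟩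
  · obtain ⟨c, hc, hcc, hc0, -⟩ := exists_iso_W hF hS h2 hn inW_zero inW_zero inW_zero inW_zero inW_zero inW_zero
    obtain ⟨y, hy, -, -, hcy⟩ := exists_iso_partner hF hS h2 hn hc (d := 0) inW_zero (by simpa using hc0)
    have hyc : hermForm n F q y c = 1 := (herm_symm_one hF hS hc hy).trans hcy
    obtain ⟨g, hg, eg⟩ := exists_tMat_mem hF hcc (c := δ) (by rw [hδq, add_neg_cancel])
    have hg' : g ∈ SUGL n F q := hg
    rw [← heq] at hg'
    have hp := preserves_of_fix hF hS hg'.1 hc hc0 (by rw [eg, tMat_mulVec, hcc]; simp) y hy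
    rw [eg, tMat_mulVec, hyc, mul_one] at hp
    have := (hp.sub hy)
    rw [add_sub_cancel_left] at this
    exact not_mem_of_skew hF hS h2 hδ0 hδq (this.scalar_mem hc rfl hc0)
  by_cases hMH : M ≤ SubH q F₀ P
  · exact Or.inl (le_antisymm hMH hle)
  obtain ⟨c, k, hc, hc0, hcc, hk0, hk, hm⟩ := exists_rational_transv hF hS h2 hn hle hM hMH
  exact Or.inr (le_antisymm hM (le_of_good_rational hF hS h2 hn hle hM fun d hd hdd =>
    good_rational hF hS h2 hn hle hM hc hc0 hcc hk0 hk hm hd hdd))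

end CfsgLib.UnitGeo
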